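/-
Group theory for sections of a group with a large abelian subgroup.
Main results (namespace `Cfsg.Agent.ToralSection`): `exists_lift` (a subgroup of prime order of a quotient and
its normaliser lift to a p-subgroup and its normaliser), `exists_conj_into`.
-/
import Cfsg.Agent.EqLemmas

set_option autoImplicit false

namespace Cfsg.Agent.ToralSection

open Subgroup

/-- A `p`-subgroup is conjugate into a subgroup of index prime to `p`, inside any group between them. -/
theorem exists_conj_into {G : Type*} [Group G] [Finite G] {s : ℕ} [hs : Fact s.Prime] {T X P : Subgroup G}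
    (hTX : T ≤ X) (hidx : ¬ s ∣ T.index) (hPX : P ≤ X) (hP : IsPGroup s P) :
    ∃ x ∈ X, ∀ t ∈ P, x * t * x⁻¹ ∈ T := by
  classical
  have hidx' : ¬ s ∣ (T.subgroupOf X).index := fun h => hidx (by
    rw [← Subgroup.relIndex_mul_index hTX]
    exact h.mul_right _)
  set TX := T.subgroupOf X with hTXdef
  obtain ⟨Q⟩ : Nonempty (Sylow s TX) := inferInstance
  have hcard : Nat.card ((Q : Subgroup TX).map TX.subtype) = s ^ (Nat.card X).factorization s := by
    rw [Subgroup.card_map_of_injective (Subgroup.subtype_injective _), Sylow.card_eq_multiplicity]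
    congr 1
    rw [← TX.card_mul_index, Nat.factorization_mul Nat.card_pos.ne' (Subgroup.index_ne_zero_of_finite),
      Finsupp.add_apply, Nat.factorization_eq_zero_of_not_dvd hidx', add_zero]
  let S : Sylow s X := Sylow.ofCard _ hcard
  obtain ⟨S', hS'⟩ := (show IsPGroup s (P.subgroupOf X) from
    hP.of_equiv (Subgroup.subgroupOfEquivOfLe hPX).symm).exists_le_sylow
  obtain ⟨x, hx⟩ := MulAction.exists_smul_eq X S' S
  refine ⟨x, x.2, fun t ht => ?_⟩
  have h1 : x * ⟨t, hPX ht⟩ * x⁻¹ ∈ (S : Subgroup X) := by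
    rw [← hx, Sylow.coe_subgroup_smul]
    exact ⟨⟨t, hPX ht⟩, hS' (Subgroup.mem_subgroupOf.2 ht), rfl⟩
  obtain ⟨u, -, hu⟩ := h1
  have h2 := u.2
  rw [Subgroup.mem_subgroupOf, show (u : X) = _ from hu] at h2
  exact h2

variable {H : Type*} [Group H] [Finite H] {B : Type*} [Group B]

/-- A subgroup of prime order `s` of a homomorphic image is the image of an `s`-subgroup whose normaliser covers
its normaliser. -/
theorem exists_lift (φ : H →* B) {s : ℕ} [hs : Fact s.Prime] {x : B} (hx : orderOf x = s) (hxr : x ∈ φ.range) :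
    ∃ P : Subgroup H, IsPGroup s P ∧ P.map φ = zpowers x ∧
      ∀ a ∈ φ.range, a * x * a⁻¹ ∈ zpowers x → ∃ g : H, φ g = a ∧ ∀ t ∈ P, g * t * g⁻¹ ∈ P := by
  classical
  set H₁ := (zpowers x).comap φ with hH₁
  obtain ⟨Q⟩ : Nonempty (Sylow s H₁) := inferInstance
  set P := (Q : Subgroup H₁).map H₁.subtype with hPdef
  have hPH₁ : P ≤ H₁ := Subgroup.map_subtype_le _
  have hPmap : P.map φ = zpowers x := by
    refine le_antisymm ((Subgroup.map_mono hPH₁).trans (Subgroup.map_comap_le _ _)) ?_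
    let ψ : H₁ →* zpowers x := (φ.comp H₁.subtype).codRestrict _ fun h => h.2
    have hψ : Function.Surjective ψ := by
      rintro ⟨y, hy⟩
      obtain ⟨h, rfl⟩ : y ∈ φ.range := (Subgroup.zpowers_le.2 hxr) hy
      exact ⟨⟨h, hy⟩, rfl⟩
    haveI : Finite (zpowers x) := Finite.of_surjective ψ hψ
    have hz : (Q.mapSurjective hψ : Subgroup (zpowers x)) = ⊤ := by
      refine Subgroup.eq_top_of_card_eq _ ?_
      rw [Sylow.card_eq_multiplicity, Nat.card_zpowers, hx, hs.out.factorization_self, pow_one]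
    intro y hy
    have : (⟨y, hy⟩ : zpowers x) ∈ (Q.mapSurjective hψ : Subgroup (zpowers x)) := hz ▸ Subgroup.mem_top _
    rw [Sylow.coe_mapSurjective] at this
    obtain ⟨u, hu, hu'⟩ := this
    exact ⟨(u : H), ⟨u, hu, rfl⟩, congrArg Subtype.val hu'⟩
  refine ⟨P, (Q.isPGroup').map _, hPmap, fun a ha hax => ?_⟩
  obtain ⟨h, rfl⟩ := ha
  have hconj : ∀ y ∈ zpowers x, φ h * y * (φ h)⁻¹ ∈ zpowers x := fun y hy => by
    obtain ⟨i, rfl⟩ := Subgroup.mem_zpowers_iff.1 hy
    rw [← conj_zpow]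
    exact zpow_mem hax i
  have hH₁c : ∀ t ∈ H₁, h * t * h⁻¹ ∈ H₁ := fun t ht => by
    show φ (h * t * h⁻¹) ∈ zpowers x
    rw [map_mul, map_mul, map_inv]
    exact hconj _ ht
  -- the conjugate Sylow subgroup
  have hcle : P.map (MulAut.conj h).toMonoidHom ≤ H₁ := by
    rintro _ ⟨t, ht, rfl⟩
    exact hH₁c t (hPH₁ ht)
  have hcard : Nat.card ((P.map (MulAut.conj h).toMonoidHom).subgroupOf H₁) =
      s ^ (Nat.card H₁).factorization s := by
    rw [Nat.card_congr (Subgroup.subgroupOfEquivOfLe hcle).toEquiv,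
      Subgroup.card_map_of_injective (MulAut.conj h).injective,
      hPdef, Subgroup.card_map_of_injective (Subgroup.subtype_injective _), Sylow.card_eq_multiplicity]
  let Q' : Sylow s H₁ := Sylow.ofCard _ hcard
  obtain ⟨u, hu⟩ := MulAction.exists_smul_eq H₁ Q' Q
  obtain ⟨z, hz, hzφ⟩ : ∃ z ∈ P, φ z = (φ (u : H))⁻¹ :=
    (hPmap.symm ▸ inv_mem u.2 : (φ (u : H))⁻¹ ∈ P.map φ)
  refine ⟨z * u * h, by rw [map_mul, map_mul, hzφ, inv_mul_cancel, one_mul], fun t ht => ?_⟩
  have h1 : (u : H) * (h * t * h⁻¹) * (u : H)⁻¹ ∈ P := by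
    have h2 : (⟨h * t * h⁻¹, hH₁c t (hPH₁ ht)⟩ : H₁) ∈ (Q' : Subgroup H₁) :=
      Subgroup.mem_subgroupOf.2 ⟨t, ht, rfl⟩
    have h3 : u * ⟨h * t * h⁻¹, hH₁c t (hPH₁ ht)⟩ * u⁻¹ ∈ (Q : Subgroup H₁) := by
      rw [← hu, Sylow.coe_subgroup_smul]
      exact ⟨_, h2, rfl⟩
    exact ⟨_, h3, rfl⟩
  rw [show z * u * h * t * (z * u * h)⁻¹ = z * ((u : H) * (h * t * h⁻¹) * (u : H)⁻¹) * z⁻¹ by group]
  exact mul_mem (mul_mem hz h1) (inv_mem hz)

end Cfsg.Agent.ToralSection
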