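/-
Elements of alternating groups used against sections: `x ↦ x³` in degree 11, `(x, y) ↦ (x³, y²)` in degree 12,
and the embedding of a smaller alternating group.
Main results (namespace `Cfsg.Agent.ToralSection`): `altEmb`, `exists_sub_section`, `alt_eleven`, `alt_twelve`.
-/
import Cfsg.Agent.EqLemmas

set_option autoImplicit false

namespace Cfsg.Agent.ToralSection

open Equiv

/-- The embedding of alternating groups along `Fin m ≤ Fin r`. -/
noncomputable def altEmb {m r : ℕ} (h : m ≤ r) : alternatingGroup (Fin m) →* alternatingGroup (Fin r) :=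
  (((Perm.extendDomainHom (Fin.castLEquiv h)).comp (alternatingGroup (Fin m)).subtype)).codRestrict _
    fun σ => by
      rw [Equiv.Perm.mem_alternatingGroup]
      show Perm.sign ((σ : Perm (Fin m)).extendDomain (Fin.castLEquiv h)) = 1
      rw [Perm.sign_extendDomain]
      exact σ.2

theorem altEmb_injective {m r : ℕ} (h : m ≤ r) : Function.Injective (altEmb h) := fun a b e =>
  Subtype.ext (Perm.extendDomainHom_injective (Fin.castLEquiv h) (congrArg Subtype.val e))

/-- A section isomorphic to a smaller alternating group. -/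
theorem exists_sub_section {G : Type*} [Group G] {m r : ℕ} (h : m ≤ r) (φ : G →* alternatingGroup (Fin r))
    (hφ : Function.Surjective φ) :
    ∃ (H : Subgroup G) (ψ : H →* alternatingGroup (Fin m)), Function.Surjective ψ := by
  let e := MonoidHom.ofInjective (altEmb_injective h)
  refine ⟨(altEmb h).range.comap φ, e.symm.toMonoidHom.comp
    ((φ.comp ((altEmb h).range.comap φ).subtype).codRestrict _ fun g => g.2), e.symm.surjective.comp ?_⟩
  rintro ⟨b, hb⟩
  obtain ⟨g, rfl⟩ := hφ b
  exact ⟨⟨g, hb⟩, rfl⟩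

theorem alt_eleven : ∃ x a : alternatingGroup (Fin 11), orderOf x = 11 ∧ a * x * a⁻¹ = x ^ 3 := by
  haveI : Fact (Nat.Prime 11) := ⟨by norm_num⟩
  let X : Perm (Fin 11) := ⟨fun i => i + 1, fun i => i - 1, by decide, by decide⟩
  let A : Perm (Fin 11) := ⟨fun i => 3 * i, fun i => 4 * i, by decide, by decide⟩
  refine ⟨⟨X, by rw [Equiv.Perm.mem_alternatingGroup]; decide +kernel⟩,
    ⟨A, by rw [Equiv.Perm.mem_alternatingGroup]; decide +kernel⟩, ?_, ?_⟩
  · refine orderOf_eq_prime ?_ ?_
    · apply Subtype.ext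
      show X ^ 11 = 1
      decide +kernel
    · intro e
      have h1 : X = 1 := congrArg Subtype.val e
      exact absurd (DFunLike.congr_fun h1 0) (by decide)
  · apply Subtype.ext
    show A * X * A⁻¹ = X ^ 3
    decide +kernel

theorem alt_twelve : ∃ x y a : alternatingGroup (Fin 12), orderOf x = 7 ∧ orderOf y = 5 ∧ y * x * y⁻¹ = x ∧
    a * x * a⁻¹ = x ^ 3 ∧ a * y * a⁻¹ = y ^ 2 := by
  haveI : Fact (Nat.Prime 7) := ⟨by norm_num⟩
  haveI : Fact (Nat.Prime 5) := ⟨by norm_num⟩
  let X : Perm (Fin 12) := ⟨fun i => ![1, 2, 3, 4, 5, 6, 0, 7, 8, 9, 10, 11] i,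
    fun i => ![6, 0, 1, 2, 3, 4, 5, 7, 8, 9, 10, 11] i, by decide, by decide⟩
  let Y : Perm (Fin 12) := ⟨fun i => ![0, 1, 2, 3, 4, 5, 6, 8, 9, 10, 11, 7] i,
    fun i => ![0, 1, 2, 3, 4, 5, 6, 11, 7, 8, 9, 10] i, by decide, by decide⟩
  let A : Perm (Fin 12) := ⟨fun i => ![0, 3, 6, 2, 5, 1, 4, 7, 9, 11, 8, 10] i,
    fun i => ![0, 5, 3, 1, 6, 4, 2, 7, 10, 8, 11, 9] i, by decide, by decide⟩
  refine ⟨⟨X, by rw [Equiv.Perm.mem_alternatingGroup]; decide +kernel⟩,
    ⟨Y, by rw [Equiv.Perm.mem_alternatingGroup]; decide +kernel⟩,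
    ⟨A, by rw [Equiv.Perm.mem_alternatingGroup]; decide +kernel⟩, ?_, ?_, ?_, ?_, ?_⟩
  · refine orderOf_eq_prime ?_ ?_
    · apply Subtype.ext
      show X ^ 7 = 1
      decide +kernel
    · intro e
      have h1 : X = 1 := congrArg Subtype.val e
      exact absurd (DFunLike.congr_fun h1 0) (by decide)
  · refine orderOf_eq_prime ?_ ?_
    · apply Subtype.ext
      show Y ^ 5 = 1
      decide +kernel
    · intro e
      have h1 : Y = 1 := congrArg Subtype.val e
      exact absurd (DFunLike.congr_fun h1 7) (by decide)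
  all_goals apply Subtype.ext
  · show Y * X * Y⁻¹ = X
    decide +kernel
  · show A * X * A⁻¹ = X ^ 3
    decide +kernel
  · show A * Y * A⁻¹ = Y ^ 2
    decide +kernel

end Cfsg.Agent.ToralSection
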