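/-
Elements of prime order of a section of a group with a toral subgroup `τ (Cⁿ)`, fusion in which is controlled by
integer matrices: the eigenvalue criterion.
Main results (namespace `Cfsg.Agent.ToralSection`): `Fusion`, `dvd_det`, `single`, `pair`.
-/
import Cfsg.Agent.Lib.ToralSection.Lift
import Cfsg.Agent.Lib.ChevOrder.CardH

set_option autoImplicit false

namespace Cfsg.Agent.ToralSection

open Subgroup Polynomial
open Cfsg.Agent.ChevOrder (act)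

variable {C : Type*} [CommGroup C] {G : Type*} [Group G] {n : ℕ}

/-- Fusion in the image of `τ` is given by matrices satisfying `W`. -/
def Fusion (τ : (Fin n → C) →* G) (W : Matrix (Fin n) (Fin n) ℤ → Prop) : Prop :=
  ∀ g : G, ∃ A, W A ∧ ∀ c, g * τ c * g⁻¹ ∈ τ.range → g * τ c * g⁻¹ = τ (act A c)

theorem act_add (A B : Matrix (Fin n) (Fin n) ℤ) (c : Fin n → C) : act (A + B) c = act A c * act B c := by
  funext j
  rw [Pi.mul_apply, ChevOrder.act_apply, ChevOrder.act_apply, ChevOrder.act_apply, ← Finset.prod_mul_distrib]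
  exact Finset.prod_congr rfl fun i _ => by rw [Matrix.add_apply, zpow_add]

theorem act_smul (z : ℤ) (A : Matrix (Fin n) (Fin n) ℤ) (c : Fin n → C) : act (z • A) c = act A c ^ z := by
  funext j
  rw [Pi.pow_apply, ChevOrder.act_apply, ChevOrder.act_apply, ← Finset.prod_zpow]
  exact Finset.prod_congr rfl fun i _ => by rw [Matrix.smul_apply, smul_eq_mul, mul_comm, zpow_mul]

theorem act_zero (c : Fin n → C) : act (0 : Matrix (Fin n) (Fin n) ℤ) c = 1 := by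
  funext j
  rw [ChevOrder.act_apply, Pi.one_apply]
  exact Finset.prod_eq_one fun i _ => by rw [Matrix.zero_apply, zpow_zero]

variable {τ : (Fin n → C) →* G}
variable {H : Type*} [Group H] (ι : H →* G) {P : Subgroup H}

theorem pow_conj_mem {g : H} (hgP : ∀ t ∈ P, g * t * g⁻¹ ∈ P) {t : H} (ht : t ∈ P) :
    ∀ k : ℕ, g ^ k * t * (g ^ k)⁻¹ ∈ P := by
  intro k
  induction k with
  | zero => simpa using ht
  | succ k ih => simpa [pow_succ', mul_assoc] using hgP _ ih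

theorem iterate {A : Matrix (Fin n) (Fin n) ℤ} {g : H}
    (hA : ∀ c, ι g * τ c * (ι g)⁻¹ ∈ τ.range → ι g * τ c * (ι g)⁻¹ = τ (act A c))
    (hT : ∀ t ∈ P, ι t ∈ τ.range) (hgP : ∀ t ∈ P, g * t * g⁻¹ ∈ P) {t : H} (ht : t ∈ P) {c : Fin n → C}
    (hc : ι t = τ c) : ∀ k : ℕ, ι (g ^ k * t * (g ^ k)⁻¹) = τ (act (A ^ k) c) := by
  intro k
  induction k with
  | zero => simpa [ChevOrder.act_one] using hc
  | succ k ih =>
    have hmem := pow_conj_mem hgP ht k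
    have e : ι (g ^ (k + 1) * t * (g ^ (k + 1))⁻¹) = ι g * τ (act (A ^ k) c) * (ι g)⁻¹ := by
      rw [← ih, ← map_inv, ← map_mul, ← map_mul, pow_succ']
      congr 1
      group
    have hr : ι g * τ (act (A ^ k) c) * (ι g)⁻¹ ∈ τ.range := e ▸ hT _ (pow_conj_mem hgP ht (k + 1))
    rw [e, hA _ hr, ← ChevOrder.act_mul, ← pow_succ']

variable {B : Type*} [Group B] (φ : H →* B)

/-- The eigenvalue criterion. -/
theorem dvd_det (hι : Function.Injective ι) {A : Matrix (Fin n) (Fin n) ℤ} {g : H}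
    (hA : ∀ c, ι g * τ c * (ι g)⁻¹ ∈ τ.range → ι g * τ c * (ι g)⁻¹ = τ (act A c))
    (hT : ∀ t ∈ P, ι t ∈ τ.range) (hgP : ∀ t ∈ P, g * t * g⁻¹ ∈ P) {j : ℕ}
    (hj : ∀ t ∈ P, φ (g * t * g⁻¹) = φ t ^ j) {t₀ : H} (ht₀ : t₀ ∈ P) {s : ℕ} (hs : orderOf (φ t₀) = s) :
    (s : ℤ) ∣ (Matrix.scalar (Fin n) (j : ℤ) - A).det := by
  have hjk : ∀ (k : ℕ), ∀ t ∈ P, φ (g ^ k * t * (g ^ k)⁻¹) = φ t ^ (j ^ k) := by
    intro k
    induction k with
    | zero => intro t _; simp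
    | succ k ih =>
      intro t ht
      rw [show g ^ (k + 1) * t * (g ^ (k + 1))⁻¹ = g * (g ^ k * t * (g ^ k)⁻¹) * g⁻¹ by rw [pow_succ']; group,
        hj _ (pow_conj_mem hgP ht k), ih t ht, ← pow_mul, pow_succ]
  have key : ∀ (Q : ℤ[X]) (t : H), t ∈ P → ∀ c, ι t = τ c →
      ∃ t' ∈ P, ι t' = τ (act (aeval A Q) c) ∧ φ t' = φ t ^ Q.eval (j : ℤ) := by
    intro Q
    induction Q using Polynomial.induction_on' with
    | add f f' hf hf' =>
      intro t ht c hc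
      obtain ⟨t₁, h1, h1', h1''⟩ := hf t ht c hc
      obtain ⟨t₂, h2, h2', h2''⟩ := hf' t ht c hc
      refine ⟨t₁ * t₂, mul_mem h1 h2, ?_, ?_⟩
      · rw [map_mul, h1', h2', map_add, act_add, map_mul]
      · rw [map_mul, h1'', h2'', eval_add, zpow_add]
    | monomial k z =>
      intro t ht c hc
      refine ⟨(g ^ k * t * (g ^ k)⁻¹) ^ z, zpow_mem (pow_conj_mem hgP ht k) z, ?_, ?_⟩
      · rw [map_zpow, iterate ι hA hT hgP ht hc k, aeval_monomial, ← Algebra.smul_def, act_smul, map_zpow]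
      · rw [map_zpow, hjk k t ht, eval_monomial, mul_comm, zpow_mul, ← zpow_natCast, Nat.cast_pow]
  obtain ⟨c, hc⟩ := hT t₀ ht₀
  obtain ⟨t', -, ht', hφ⟩ := key A.charpoly t₀ ht₀ c hc.symm
  rw [Matrix.aeval_self_charpoly, act_zero, map_one, ← map_one ι] at ht'
  rw [hι ht', map_one, Matrix.eval_charpoly] at hφ
  rw [← hs]
  exact orderOf_dvd_iff_zpow_eq_one.2 hφ.symm

variable {W : Matrix (Fin n) (Fin n) ℤ → Prop} [Finite G] [Finite H]

theorem exists_fix {B : Type*} [Group B] (φ : H →* B) {P : Subgroup H} {x : B} (hP : P.map φ = zpowers x) :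
    ∃ t ∈ P, φ t = x :=
  (hP.symm ▸ mem_zpowers x : x ∈ P.map φ)

theorem map_conj_eq {P : Subgroup H} {x a : B} {j : ℕ} (hP : P.map φ = zpowers x) (hax : a * x * a⁻¹ = x ^ j)
    {g : H} (hg : φ g = a) : ∀ t ∈ P, φ (g * t * g⁻¹) = φ t ^ j := fun t ht => by
  obtain ⟨i, hi⟩ := Subgroup.mem_zpowers_iff.1 (hP ▸ Subgroup.mem_map_of_mem φ ht : φ t ∈ zpowers x)
  rw [map_mul, map_mul, map_inv, hg, ← hi, ← conj_zpow, hax, ← zpow_natCast, ← zpow_mul, mul_comm,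
    zpow_mul, zpow_natCast]

/-- The criterion for one element of prime order of a section. -/
theorem single (hF : Fusion τ W) {s : ℕ} [Fact s.Prime] (hidx : ¬ s ∣ τ.range.index) (hι : Function.Injective ι)
    {x a : B} (hxr : x ∈ φ.range) (har : a ∈ φ.range) (hx : orderOf x = s) {j : ℕ} (hax : a * x * a⁻¹ = x ^ j) :
    ∃ A, W A ∧ (s : ℤ) ∣ (Matrix.scalar (Fin n) (j : ℤ) - A).det := by
  obtain ⟨P, hP, hPmap, hnorm⟩ := exists_lift φ hx hxr
  obtain ⟨g, hg, hgP⟩ := hnorm a har (hax ▸ pow_mem (mem_zpowers x) j)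
  obtain ⟨c, -, hc⟩ := exists_conj_into (le_top : τ.range ≤ ⊤) hidx (le_top : P.map ι ≤ ⊤) (hP.map ι)
  set ι' := (MulAut.conj c).toMonoidHom.comp ι with hι'
  have hT : ∀ t ∈ P, ι' t ∈ τ.range := fun t ht => hc _ (Subgroup.mem_map_of_mem ι ht)
  obtain ⟨A, hW, hA⟩ := hF (ι' g)
  obtain ⟨t₀, ht₀, hφ⟩ := exists_fix φ hPmap
  exact ⟨A, hW, dvd_det ι' φ ((MulAut.conj c).injective.comp hι) hA hT hgP (map_conj_eq φ hPmap hax hg) ht₀
    (by rw [hφ, hx])⟩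

/-- The criterion for two commuting elements of different prime orders. -/
theorem pair (hF : Fusion τ W) {e : ℕ} (hexp : ∀ A, W A → A ^ e = 1) {s r : ℕ} [hs : Fact s.Prime]
    [hr : Fact r.Prime] (hre : ¬ r ∣ e) (hidx : ¬ s ∣ τ.range.index) (hidx' : ¬ r ∣ τ.range.index)
    (hι : Function.Injective ι) (hφ : Function.Surjective φ) {x y a : B} (hx : orderOf x = s) (hy : orderOf y = r)
    (hxy : y * x * y⁻¹ = x) {j k : ℕ} (hax : a * x * a⁻¹ = x ^ j) (hay : a * y * a⁻¹ = y ^ k) :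
    ∃ A, W A ∧ (s : ℤ) ∣ (Matrix.scalar (Fin n) (j : ℤ) - A).det ∧
      (r : ℤ) ∣ (Matrix.scalar (Fin n) (k : ℤ) - A).det := by
  have hsurj : ∀ b, b ∈ φ.range := fun b => hφ b
  obtain ⟨P, hP, hPmap, hnorm⟩ := exists_lift φ hx (hsurj x)
  let N : Subgroup H := Subgroup.normalizer (P : Set H)
  have hmemN : ∀ g : H, (∀ t ∈ P, g * t * g⁻¹ ∈ P) → g ∈ N := by
    intro g hg
    rw [Subgroup.mem_normalizer_iff]
    intro t
    refine ⟨hg t, fun ht => ?_⟩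
    have := pow_conj_mem hg ht (orderOf g - 1)
    have e1 : g ^ (orderOf g - 1) = g⁻¹ := eq_inv_of_mul_eq_one_left (by
      rw [← pow_succ, Nat.sub_add_cancel (orderOf_pos g), pow_orderOf_eq_one])
    rw [e1] at this
    simpa [mul_assoc] using this
  obtain ⟨gy, hgy, hgy'⟩ := hnorm y (hsurj y) (by rw [hxy]; exact mem_zpowers x)
  obtain ⟨ga, hga, hga'⟩ := hnorm a (hsurj a) (hax ▸ pow_mem (mem_zpowers x) j)
  set φN := φ.comp N.subtype with hφN
  obtain ⟨R, hR, hRmap, hnormR⟩ := exists_lift φN hy ⟨⟨gy, hmemN gy hgy'⟩, hgy⟩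
  obtain ⟨g, hg, hgR⟩ := hnormR a ⟨⟨ga, hmemN ga hga'⟩, hga⟩ (hay ▸ pow_mem (mem_zpowers y) k)
  have hgP : ∀ t ∈ P, (g : H) * t * (g : H)⁻¹ ∈ P := fun t ht => (Subgroup.mem_normalizer_iff.1 g.2 t).1 ht
  obtain ⟨c₁, -, hc₁⟩ := exists_conj_into (le_top : τ.range ≤ ⊤) hidx (le_top : P.map ι ≤ ⊤) (hP.map ι)
  set ι₁ := (MulAut.conj c₁).toMonoidHom.comp ι with hι₁
  have hι₁i : Function.Injective ι₁ := (MulAut.conj c₁).injective.comp hι
  have hT : ∀ t ∈ P, ι₁ t ∈ τ.range := fun t ht => hc₁ _ (Subgroup.mem_map_of_mem ι ht)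
  have hRP : ∀ u ∈ R, ∀ t ∈ P, (u : H) * t * (u : H)⁻¹ = t := by
    intro u hu t ht
    obtain ⟨A, hW, hA⟩ := hF (ι₁ u)
    obtain ⟨c, hc⟩ := hT t ht
    have he := iterate ι₁ hA hT (fun t ht => (Subgroup.mem_normalizer_iff.1 u.2 t).1 ht) ht hc.symm e
    rw [hexp A hW, ChevOrder.act_one, hc] at he
    have h1 : (u : H) ^ e * t * ((u : H) ^ e)⁻¹ = t := hι₁i he
    obtain ⟨m, hm⟩ := hR ⟨u, hu⟩
    have hm' : (u : H) ^ r ^ m = 1 := by
      have := congrArg (fun v : R => ((v : N) : H)) hm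
      simpa using this
    obtain ⟨b, hb⟩ := exists_pow_eq_self_of_coprime (x := (u : H)) (n := e)
      (((hr.out.coprime_iff_not_dvd.2 hre).symm).pow_right m |>.coprime_dvd_right (orderOf_dvd_of_pow_eq_one hm'))
    rw [← hb]
    have h2 : ∀ b : ℕ, ((u : H) ^ e) ^ b * t * (((u : H) ^ e) ^ b)⁻¹ = t := by
      intro b
      induction b with
      | zero => simp
      | succ b ih =>
        rw [pow_succ, show ((u : H) ^ e) ^ b * (u : H) ^ e * t * (((u : H) ^ e) ^ b * (u : H) ^ e)⁻¹ =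
          ((u : H) ^ e) ^ b * ((u : H) ^ e * t * ((u : H) ^ e)⁻¹) * (((u : H) ^ e) ^ b)⁻¹ by group, h1, ih]
    exact h2 b
  set X := Subgroup.centralizer ((P.map ι₁ : Subgroup G) : Set G) with hX
  have hTX : τ.range ≤ X := by
    rintro _ ⟨c, rfl⟩
    rw [hX, Subgroup.mem_centralizer_iff]
    rintro _ ⟨t, ht, rfl⟩
    obtain ⟨c', hc'⟩ := hT t ht
    rw [← hc', ← map_mul, ← map_mul, mul_comm]
  have hRX : (R.map N.subtype).map ι₁ ≤ X := by
    rintro _ ⟨_, ⟨u, hu, rfl⟩, rfl⟩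
    rw [hX, Subgroup.mem_centralizer_iff]
    rintro _ ⟨t, ht, rfl⟩
    rw [← map_mul, ← map_mul]
    exact congrArg ι₁ (mul_inv_eq_iff_eq_mul.1 (hRP u hu t ht)).symm
  obtain ⟨c₂, hc₂X, hc₂⟩ := exists_conj_into hTX hidx' hRX ((hR.map _).map _)
  set ι₂ := (MulAut.conj c₂).toMonoidHom.comp ι₁ with hι₂
  have hP₂ : ∀ t ∈ P, ι₂ t ∈ τ.range := fun t ht => by
    have e1 : ι₂ t = ι₁ t := by
      show c₂ * ι₁ t * c₂⁻¹ = ι₁ t
      rw [← (Subgroup.mem_centralizer_iff.1 hc₂X (ι₁ t) (Subgroup.mem_map_of_mem ι₁ ht)), mul_inv_cancel_right]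
    rw [e1]
    exact hT t ht
  have hR₂ : ∀ u ∈ R, ι₂ (u : H) ∈ τ.range := fun u hu =>
    hc₂ _ (Subgroup.mem_map_of_mem ι₁ (Subgroup.mem_map_of_mem _ hu))
  obtain ⟨A, hW, hA⟩ := hF (ι₂ g)
  have hι₂i : Function.Injective ι₂ := (MulAut.conj c₂).injective.comp hι₁i
  obtain ⟨t₀, ht₀, hφ₀⟩ := exists_fix φ hPmap
  obtain ⟨u₀, hu₀, hφ₁⟩ := exists_fix φN hRmap
  exact ⟨A, hW, dvd_det ι₂ φ hι₂i hA hP₂ hgP (map_conj_eq φ hPmap hax hg) ht₀ (by rw [hφ₀, hx]),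
    dvd_det (ι₂.comp N.subtype) φN (hι₂i.comp N.subtype_injective) (g := g) hA hR₂ hgR
      (map_conj_eq φN hRmap hay hg) hu₀ (by rw [hφ₁, hy])⟩

end Cfsg.Agent.ToralSection
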