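/-
Fusion in the diagonal subgroup of a Chevalley group, and sections containing commuting elements of prime order.
Main results (namespace `Cfsg.Agent.ToralSection`): `colsOf`, `matOf`, `fusion_chev`, `exists_extension`.
-/
import Cfsg.Agent.Lib.ToralSection.Criterion
import Cfsg.Agent.Lib.ChevLang.SylCert

set_option autoImplicit false
set_option linter.style.haveILetI false

namespace Cfsg.Agent.ToralSection

open Cfsg.Lie Cfsg.Lie.ChevalleyDatum Cfsg.Agent.Chev Cfsg.Agent.ChevBN Cfsg.Agent.ChevLang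

theorem conj_eq_of_normalForm {Γ Φ I : Type*} [Group Γ] (R : RGD.RootData Γ Φ I)
    (hab : ∀ x ∈ R.H, ∀ y ∈ R.H, x * y = y * x) {g : Γ} (hg : g ∈ R.G) :
    ∃ l : List I, ∀ h₁ ∈ R.H, g * h₁ * g⁻¹ ∈ R.H → g * h₁ * g⁻¹ = R.nw l * h₁ * (R.nw l)⁻¹ := by
  obtain ⟨b, hb, l, u, hu, rfl⟩ := R.exists_normalForm hg
  refine ⟨l, fun h₁ h1 h2' => ?_⟩
  obtain ⟨h₂, hc⟩ : ∃ h₂, b * R.nw l * u * h₁ * (b * R.nw l * u)⁻¹ = h₂ := ⟨_, rfl⟩
  rw [hc] at h2'
  rw [hc]
  set n := R.nw l with hn
  have hk : n * h₁ * n⁻¹ ∈ R.H := R.nw_conj_H l h1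
  have hu' : h₁⁻¹ * u * h₁ ∈ R.Uminus l := by
    simpa [RGD.RootData.Uminus] using R.H_conj_span _ (inv_mem h1) _ hu
  have e : b * (n * h₁ * n⁻¹) * n * (h₁⁻¹ * u * h₁) = h₂ * b * n * u := by rw [← hc]; group
  obtain ⟨e1, -⟩ := R.normalForm_unique (n := n) (k := 1) (one_mem _) (by simp [hn])
    (mul_mem hb (R.H_le_B hk)) (mul_mem (R.H_le_B h2') hb) hu' hu e
  obtain ⟨v, hv, h, hh, rfl⟩ := R.exists_B hb
  set k := n * h₁ * n⁻¹ with hkdef
  have hv' : h₂ * v * h₂⁻¹ ∈ R.Upos := R.H_conj_span _ h2' _ hv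
  have key : v⁻¹ * (h₂ * v * h₂⁻¹) = h * k * h⁻¹ * h₂⁻¹ := by
    calc v⁻¹ * (h₂ * v * h₂⁻¹) = v⁻¹ * (h₂ * (v * h)) * h⁻¹ * h₂⁻¹ := by group
      _ = v⁻¹ * (v * h * k) * h⁻¹ * h₂⁻¹ := by rw [e1]
      _ = _ := by group
  have h1' : h * k * h⁻¹ * h₂⁻¹ = 1 := by
    rw [← Subgroup.mem_bot, ← R.U_inf_H]
    exact ⟨key ▸ (mul_mem (inv_mem hv) hv' : _ ∈ R.Upos),
      (mul_mem (mul_mem (mul_mem hh hk) (inv_mem hh)) (inv_mem h2') : _ ∈ R.H)⟩
  rw [mul_inv_eq_one, hab h hh k hk, mul_inv_cancel_right] at h1'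
  exact h1'.symm

/-- The images of the fundamental coroots under a word. -/
def colsOf (D : ChevalleyDatum) (l : List (Fin D.rank)) : List (List ℤ) := (List.range D.rank).map (colV D l)

/-- The matrix with the given columns. -/
def matOf (n : ℕ) (M : List (List ℤ)) : Matrix (Fin n) (Fin n) ℤ :=
  Matrix.of fun j i => (M.getD i.val []).getD j.val 0

theorem colsOf_cons (D : ChevalleyDatum) (k : Fin D.rank) (l : List (Fin D.rank)) :
    colsOf D (k :: l) = (colsOf D l).map (stepV D k.val) := by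
  rw [colsOf, colsOf, List.map_map]
  rfl

variable {D : ChevalleyDatum} {M : List (List ℤ)} {d : ℤ} (hD : Good D) (hR : Roots D M d)
variable (F : Type*) [Field F]

include hD hR in
theorem torusHom_mem_group (c : Fin D.rank → Fˣ) : ChevOrder.torusHom D F c ∈ D.group F :=
  borel_le_group hD hR (Subgroup.mem_sup_right ((ChevOrder.torusHom_range (F := F) hD).le ⟨c, rfl⟩))

/-- The torus map into the group. -/
def torus : (Fin D.rank → Fˣ) →* ↥(D.group F) :=
  (ChevOrder.torusHom D F).codRestrict _ (torusHom_mem_group hD hR F)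

/-- Fusion in the torus is given by words in the fundamental reflections. -/
theorem fusion_chev :
    Fusion (torus hD hR F) (fun A => ∃ l, A = matOf D.rank (colsOf D l)) := by
  intro g
  set R := chevRGD hD hR F
  have hgG : (g : GL D.Idx F) ∈ R.G := by rw [chev_G hD hR]; exact g.2
  obtain ⟨l, hl⟩ := conj_eq_of_normalForm R (fun x hx y hy => (diag_commute hD hx hy)) hgG
  refine ⟨_, ⟨l, rfl⟩, fun c hc => ?_⟩
  obtain ⟨c', hc'⟩ := hc
  apply Subtype.ext
  have hc'' : ChevOrder.torusHom D F c' = (g : GL D.Idx F) * ChevOrder.torusHom D F c * (g : GL D.Idx F)⁻¹ :=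
    congrArg Subtype.val hc'
  have hmem : ∀ c, ChevOrder.torusHom D F c ∈ R.H := fun c =>
    (ChevOrder.torusHom_range (F := F) hD).le ⟨c, rfl⟩
  show (g : GL D.Idx F) * ChevOrder.torusHom D F c * (g : GL D.Idx F)⁻¹ = _
  rw [hl _ (hmem c) (hc'' ▸ hmem c')]
  refine nw_conj_torusHom hD hR l _ (fun i r hr => ?_) c
  rw [← colV_spec hD hR l i hr]
  refine Finset.sum_congr rfl fun j _ => ?_
  congr 1
  have hcol : (colsOf D l).getD i.val [] = colV D l i.val := by
    rw [colsOf, List.getD_eq_getElem _ _ (by simp), List.getElem_map, List.getElem_range]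
  rw [matOf, Matrix.of_apply, hcol]

omit hD hR in
/-- An extension of `F` in which a given number of given primes divide the order of the multiplicative group. -/
theorem exists_extension [Fintype F] (p N : ℕ) [Fact p.Prime] [CharP F p] [NeZero N] :
    ∃ (K : Type) (_ : Field K) (_ : Fintype K) (_ : F →+* K), Fintype.card K = Fintype.card F ^ N := by
  letI := Fintype.ofFinite (FiniteField.Extension F p N)
  exact ⟨FiniteField.Extension F p N, inferInstance, inferInstance, algebraMap F _, by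
    rw [← Nat.card_eq_fintype_card, FiniteField.natCard_extension, Nat.card_eq_fintype_card]⟩

include hD in
theorem exists_hom_group {K : Type*} [Field K] (f : F →+* K) :
    ∃ ι : ↥(D.group F) →* ↥(D.group K), Function.Injective ι :=
  ⟨((ChevFixed.mapG D f).comp (D.group F).subtype).codRestrict _ fun g =>
      ChevFixed.mapG_group_le hD f ⟨g.1, g.2, rfl⟩,
    fun a b h => Subtype.ext (ChevFixed.mapG_injective f (congrArg Subtype.val h))⟩

end Cfsg.Agent.ToralSection
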