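/-
Checks on the table of the Weyl group of type F4: closure under the fundamental reflections, exponent 24 and the
absence of the eigenvalue configurations of alternating sections of degree 11 and 12.
Main results (namespace `Cfsg.Agent.ToralSection.F4`): `table_step`, `table_good`, `det4_eq`.
-/
import Cfsg.Agent.Lib.ToralSection.F4Table

set_option autoImplicit false
set_option maxRecDepth 100000

namespace Cfsg.Agent.ToralSection.F4

/-- The Cartan matrix of F4, as used by the tables. -/
def cart : List (List ℤ) := [[2, -1, 0, 0], [-1, 2, -2, 0], [0, -1, 2, -1], [0, 0, -1, 2]]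

/-- A fundamental reflection on a coroot vector. -/
def stepC (k : ℕ) (v : List ℤ) : List ℤ :=
  (List.range 4).map fun i =>
    v.getD i 0 - if i = k then ((List.range 4).map fun j => (cart.getD j []).getD k 0 * v.getD j 0).sum else 0

/-- The matrix encoded by a number. -/
def decode (n : ℕ) : List (List ℤ) :=
  (List.range 4).map fun i => (List.range 4).map fun j => (((n / 16 ^ (4 * i + j)) % 16 : ℕ) : ℤ) - 8

/-- The element with index `m`. -/
def getM (m : ℕ) : List (List ℤ) := decode ((tbl.getD (m / 36) []).getD (m % 36) 0)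

/-- The index of `sₖ w` for `w` the element with index `m`. -/
def nextI (m k : ℕ) : ℕ := ((nxt.getD (m / 36) []).getD (m % 36) 0) / 2048 ^ k % 2048

/-- The product of two matrices given by columns. -/
def mulC (A B : List (List ℤ)) : List (List ℤ) :=
  (List.range 4).map fun i => (List.range 4).map fun j =>
    ((List.range 4).map fun k => (A.getD k []).getD j 0 * (B.getD i []).getD k 0).sum

/-- The twenty-fourth power. -/
def pow24 (A : List (List ℤ)) : List (List ℤ) :=
  let A2 := mulC A A
  let A3 := mulC A2 A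
  let A6 := mulC A3 A3
  let A12 := mulC A6 A6
  mulC A12 A12

/-- The entry in row `a`, column `b` of `j - A`. -/
def shiftEntry (j : ℤ) (A : List (List ℤ)) (a b : ℕ) : ℤ := (if a = b then j else 0) - (A.getD b []).getD a 0

/-- A determinant of degree four. -/
def det4 (e : ℕ → ℕ → ℤ) : ℤ :=
  e 0 0 * (e 1 1 * (e 2 2 * e 3 3 - e 2 3 * e 3 2) - e 1 2 * (e 2 1 * e 3 3 - e 2 3 * e 3 1)
      + e 1 3 * (e 2 1 * e 3 2 - e 2 2 * e 3 1))
  - e 0 1 * (e 1 0 * (e 2 2 * e 3 3 - e 2 3 * e 3 2) - e 1 2 * (e 2 0 * e 3 3 - e 2 3 * e 3 0)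
      + e 1 3 * (e 2 0 * e 3 2 - e 2 2 * e 3 0))
  + e 0 2 * (e 1 0 * (e 2 1 * e 3 3 - e 2 3 * e 3 1) - e 1 1 * (e 2 0 * e 3 3 - e 2 3 * e 3 0)
      + e 1 3 * (e 2 0 * e 3 1 - e 2 1 * e 3 0))
  - e 0 3 * (e 1 0 * (e 2 1 * e 3 2 - e 2 2 * e 3 1) - e 1 1 * (e 2 0 * e 3 2 - e 2 2 * e 3 0)
      + e 1 2 * (e 2 0 * e 3 1 - e 2 1 * e 3 0))

/-- The checks on one element. -/
def goodI (m : ℕ) : Bool :=
  let A := getM m
  pow24 A == [[1, 0, 0, 0], [0, 1, 0, 0], [0, 0, 1, 0], [0, 0, 0, 1]] &&
    det4 (shiftEntry 3 A) % 11 != 0 &&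
    !(det4 (shiftEntry 3 A) % 7 == 0 && det4 (shiftEntry 2 A) % 5 == 0)

/-- The closure check on one element. -/
def stepI (m : ℕ) : Bool :=
  (List.range 4).all fun k => decide (nextI m k < 1152) && (getM (nextI m k) == (getM m).map (stepC k))

/-- Both checks on a chunk. -/
def chunkOK (c : ℕ) : Bool := (List.range 36).all fun r => stepI (36 * c + r) && goodI (36 * c + r)

theorem chunks0 : (List.range 8).all (fun c => chunkOK c) = true := by decide +kernel
theorem chunks1 : (List.range 8).all (fun c => chunkOK (8 + c)) = true := by decide +kernel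
theorem chunks2 : (List.range 8).all (fun c => chunkOK (16 + c)) = true := by decide +kernel
theorem chunks3 : (List.range 8).all (fun c => chunkOK (24 + c)) = true := by decide +kernel

theorem checks {m : ℕ} (hm : m < 1152) : stepI m = true ∧ goodI m = true := by
  have hc : chunkOK (m / 36) = true := by
    have h : ∀ b, (List.range 8).all (fun c => chunkOK (b + c)) = true → b ≤ m / 36 → m / 36 < b + 8 →
        chunkOK (m / 36) = true := fun b hb h1 h2 => by
      have := List.all_eq_true.1 hb (m / 36 - b) (List.mem_range.2 (by omega))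
      rwa [show b + (m / 36 - b) = m / 36 by omega] at this
    rcases Nat.lt_or_ge (m / 36) 8 with h0 | h0
    · exact List.all_eq_true.1 chunks0 _ (List.mem_range.2 h0)
    rcases Nat.lt_or_ge (m / 36) 16 with h1 | h1
    · exact h 8 chunks1 h0 (by omega)
    rcases Nat.lt_or_ge (m / 36) 24 with h2 | h2
    · exact h 16 chunks2 h1 (by omega)
    · exact h 24 chunks3 h2 (by omega)
  have := List.all_eq_true.1 hc (m % 36) (List.mem_range.2 (Nat.mod_lt _ (by omega)))
  rwa [Nat.div_add_mod, Bool.and_eq_true] at this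

theorem getM_zero : getM 0 = [[1, 0, 0, 0], [0, 1, 0, 0], [0, 0, 1, 0], [0, 0, 0, 1]] := by decide +kernel

end Cfsg.Agent.ToralSection.F4
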