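/-
Sections of F4(q) isomorphic to alternating groups: no elements `x ↦ x³` of order 11 away from the characteristic,
no configuration `(x, y) ↦ (x³, y²)` of orders 7 and 5.
Main results (namespace `Cfsg.Agent.ToralSection.F4`): `exists_index`, `weyl_exp`, `weyl_eleven`, `weyl_thirtyfive`,
`index_not_dvd`, `no_eleven`, `no_thirtyfive`.
-/
import Cfsg.Agent.Lib.ToralSection.Chev
import Cfsg.Agent.Lib.ToralSection.F4Cert
import Cfsg.Agent.Lib.ChevOrder.Final
import Cfsg.Agent.Lib.Chev.All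

set_option autoImplicit false
set_option linter.style.haveILetI false
set_option linter.unusedSectionVars false

namespace Cfsg.Agent.ToralSection.F4

open Cfsg.Lie Cfsg.Agent.ChevLang Cfsg.Agent.ToralSection

theorem cart_ok : ∀ j : Fin 4, ∀ k : Fin 4,
    chevF4.cartan j.val (chevF4.simple k.val) = (cart.getD j.val []).getD k.val 0 := by decide +kernel

theorem stepV_eq (k : Fin 4) (v : List ℤ) : stepV chevF4 k.val v = stepC k.val v := by
  have hr : chevF4.rank = 4 := rfl
  unfold stepV stepC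
  rw [hr]
  refine List.map_congr_left fun i _ => ?_
  congr 1
  split_ifs
  · refine congrArg List.sum (List.map_congr_left fun j hj => ?_)
    rw [List.mem_range] at hj
    rw [cart_ok ⟨j, hj⟩ k]
  · rfl

theorem colsOf_nil : colsOf chevF4 [] = getM 0 := by
  rw [getM_zero]
  decide +kernel

theorem exists_index (l : List (Fin chevF4.rank)) : ∃ m < 1152, colsOf chevF4 l = getM m := by
  induction l with
  | nil => exact ⟨0, by norm_num, colsOf_nil⟩
  | cons k l ih =>
    obtain ⟨m, hm, e⟩ := ih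
    have h := List.all_eq_true.1 (checks hm).1 k.val (List.mem_range.2 k.isLt)
    simp only [Bool.and_eq_true, decide_eq_true_eq, beq_iff_eq] at h
    refine ⟨_, h.1, ?_⟩
    rw [colsOf_cons, e, h.2]
    exact List.map_congr_left fun v _ => stepV_eq k v

theorem getD_map_range {α : Type*} (f : ℕ → α) (d : α) {n i : ℕ} (hi : i < n) :
    ((List.range n).map f).getD i d = f i := by
  rw [List.getD_eq_getElem _ _ (by simp [hi]), List.getElem_map, List.getElem_range]

theorem matOf_mulC (A B : List (List ℤ)) : matOf 4 (mulC A B) = matOf 4 A * matOf 4 B := by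
  ext j i
  rw [Matrix.mul_apply]
  simp only [matOf, Matrix.of_apply, mulC, getD_map_range _ _ i.isLt, getD_map_range _ _ j.isLt]
  rw [← List.sum_toFinset _ List.nodup_range, List.toFinset_range, Finset.sum_range]

theorem det4_eq (e : ℕ → ℕ → ℤ) : det4 e = (Matrix.of fun a b : Fin 4 => e a.val b.val).det := by
  simp [det4, Matrix.det_succ_row_zero, Fin.sum_univ_succ, Fin.succAbove]
  ring

theorem det_shift (A : List (List ℤ)) (j : ℤ) :
    (Matrix.scalar (Fin 4) j - matOf 4 A).det = det4 (shiftEntry j A) := by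
  rw [det4_eq]
  congr 1
  ext a b
  rw [Matrix.sub_apply, Matrix.scalar_apply, Matrix.diagonal_apply]
  simp only [shiftEntry, matOf, Matrix.of_apply, Fin.val_inj]

/-- The matrices of words. -/
def IsWord (A : Matrix (Fin chevF4.rank) (Fin chevF4.rank) ℤ) : Prop :=
  ∃ l, A = matOf chevF4.rank (colsOf chevF4 l)

theorem weyl_checks {A : Matrix (Fin 4) (Fin 4) ℤ} (h : IsWord A) :
    A ^ 24 = 1 ∧ ¬ (11 : ℤ) ∣ (Matrix.scalar (Fin 4) (3 : ℤ) - A).det ∧
      ¬ ((7 : ℤ) ∣ (Matrix.scalar (Fin 4) (3 : ℤ) - A).det ∧ (5 : ℤ) ∣ (Matrix.scalar (Fin 4) (2 : ℤ) - A).det) := by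
  obtain ⟨l, e⟩ := h
  obtain ⟨m, hm, hl⟩ := exists_index l
  have e' : A = matOf 4 (getM m) := by rw [← hl]; exact e
  subst e'
  have h := (checks hm).2
  simp only [goodI, Bool.and_eq_true, beq_iff_eq, bne_iff_ne, Bool.not_eq_true', Bool.and_eq_false_iff] at h
  obtain ⟨⟨h1, h2⟩, h3⟩ := h
  refine ⟨?_, ?_, ?_⟩
  · have h4 := congrArg (matOf 4) h1
    simp only [pow24, matOf_mulC] at h4
    have hone : matOf 4 [[1, 0, 0, 0], [0, 1, 0, 0], [0, 0, 1, 0], [0, 0, 0, 1]] = 1 := by decide +kernel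
    rw [hone] at h4
    rw [← h4]
    simp only [← pow_two, ← pow_succ, ← pow_mul, ← pow_add]
  · rw [det_shift]
    exact fun hd => h2 (Int.emod_eq_zero_of_dvd hd)
  · rw [det_shift, det_shift]
    rintro ⟨hd1, hd2⟩
    rcases h3 with h3 | h3
    · rw [beq_eq_false_iff_ne] at h3; exact h3 (Int.emod_eq_zero_of_dvd hd1)
    · rw [beq_eq_false_iff_ne] at h3; exact h3 (Int.emod_eq_zero_of_dvd hd2)

variable {K : Type*} [Field K] [Fintype K]

/-- Sylow subgroups for primes dividing `q - 1` but not the degrees are toral. -/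
theorem index_not_dvd (hD : Chev.Good chevF4) {s : ℕ} (hs : s.Prime) (hdvd : s ∣ Fintype.card K - 1)
    (h3 : ∀ e ∈ ([2, 6, 8, 12] : List ℕ), ¬ s ∣ e) :
    ¬ s ∣ (torus hD ChevBN.rootsF4 K).range.index := by
  set q := Fintype.card K with hq
  have hq1 : 2 ≤ q := hq ▸ Fintype.one_lt_card
  have hT : Nat.card (torus hD ChevBN.rootsF4 K).range = (q - 1) ^ 4 := by
    have hinj := Nat.card_congr ((torus hD ChevBN.rootsF4 K).range.equivMapOfInjective (chevF4.group K).subtype
      (chevF4.group K).subtype_injective).toEquiv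
    rw [hinj, MonoidHom.map_range, show (chevF4.group K).subtype.comp (torus hD ChevBN.rootsF4 K) =
      ChevOrder.torusHom chevF4 K from MonoidHom.ext fun _ => rfl, ChevOrder.torusHom_range hD]
    have h := ChevOrder.card_diagonal (F := K) hD ChevBN.rootsF4 ChevOrder.torus_F4
    rw [← hq] at h
    have h1 : (∏ i : Fin chevF4.rank, (q - 1).gcd (([1, 1, 1, 1] : List ℕ).getD i.val 0)) = 1 :=
      Finset.prod_eq_one fun i _ => by
        have h4 : i.val < 4 := i.isLt
        obtain ⟨v, hv⟩ : ∃ v, v = i.val := ⟨_, rfl⟩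
        rw [← hv] at h4 ⊢
        interval_cases v <;> simp
    rw [h1, one_mul] at h
    exact h
  have hG := (torus hD ChevBN.rootsF4 K).range.card_mul_index
  rw [hT, ChevOrder.card_F4 (F := K) (q := q) hq.symm hD] at hG
  haveI := Fact.mk hs
  have hq0 : (q : ZMod s) = 1 := by
    have := (ZMod.natCast_eq_zero_iff (q - 1) s).2 hdvd
    rwa [Nat.cast_sub (by omega), Nat.cast_one, sub_eq_zero] at this
  have hgeom : ∀ e, q ^ e - 1 = (q - 1) * ∑ i ∈ Finset.range e, q ^ i := fun e => by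
    have h := geom_sum_mul_add (q - 1) e
    rw [Nat.sub_add_cancel (by omega : 1 ≤ q)] at h
    rw [← h, Nat.add_sub_cancel, mul_comm]
  have hne : ∀ e ∈ ([2, 6, 8, 12] : List ℕ), ¬ s ∣ ∑ i ∈ Finset.range e, q ^ i := fun e he h => by
    rw [← ZMod.natCast_eq_zero_iff, Nat.cast_sum] at h
    simp only [Nat.cast_pow, hq0, one_pow, Finset.sum_const, Finset.card_range, nsmul_eq_mul, mul_one,
      ZMod.natCast_eq_zero_iff] at h
    exact h3 e he h
  intro hdiv
  rw [hgeom 2, hgeom 6, hgeom 8, hgeom 12] at hG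
  have hpos : (q - 1) ^ 4 ≠ 0 := pow_ne_zero _ (by omega)
  have e : (torus hD ChevBN.rootsF4 K).range.index = q ^ 24 * ((∑ i ∈ Finset.range 2, q ^ i) *
      (∑ i ∈ Finset.range 6, q ^ i) * (∑ i ∈ Finset.range 8, q ^ i) * (∑ i ∈ Finset.range 12, q ^ i)) :=
    mul_left_cancel₀ hpos (hG.trans (by ring))
  rw [e, hs.dvd_mul, hs.dvd_mul, hs.dvd_mul, hs.dvd_mul] at hdiv
  rcases hdiv with h | ((h | h) | h) | h
  · have := (ZMod.natCast_eq_zero_iff (q ^ 24) s).2 h
    rw [Nat.cast_pow, hq0, one_pow] at this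
    exact one_ne_zero this
  all_goals exact hne _ (by simp) h

variable {F : Type*} [Field F] [Fintype F] {p : ℕ} [Fact p.Prime] [CharP F p]

theorem dvd_pow_sixty_sub_one {s : ℕ} (hs : s.Prime) (hps : p ≠ s) (h : s - 1 ∣ 60) :
    s ∣ Fintype.card F ^ 60 - 1 := by
  haveI := Fact.mk hs
  obtain ⟨n, hpr, hn⟩ := FiniteField.card F p
  obtain ⟨c, hc⟩ := h
  have hpz : (p : ZMod s) ≠ 0 := fun h0 =>
    hps ((Nat.prime_dvd_prime_iff_eq hs hpr).1 ((ZMod.natCast_eq_zero_iff p s).1 h0)).symm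
  rw [← ZMod.natCast_eq_zero_iff, hn, ← pow_mul, mul_comm, hc, Nat.cast_sub (Nat.one_le_pow _ _ hpr.pos),
    Nat.cast_pow, Nat.cast_one, mul_assoc, pow_mul, ZMod.pow_card_sub_one_eq_one hpz, one_pow, sub_self]

variable {H : Type*} [Group H] [Finite H] {B : Type*} [Group B] (ι : H →* ↥(chevF4.group F)) (φ : H →* B)

/-- No element of order 11 is conjugate to its cube in a section. -/
theorem no_eleven (hι : Function.Injective ι) (hφ : Function.Surjective φ) (hp : p ≠ 11) {x a : B}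
    (hx : orderOf x = 11) (hax : a * x * a⁻¹ = x ^ 3) : False := by
  have hD : Chev.Good chevF4 := Chev.good_of_mem (by simp)
  haveI : Fact (Nat.Prime 11) := ⟨by norm_num⟩
  obtain ⟨K, _, _, f, hK⟩ := exists_extension F p 60
  obtain ⟨κ, hκ⟩ := exists_hom_group hD F f
  obtain ⟨A, hW, hdvd⟩ := single (κ.comp ι) φ (fusion_chev hD ChevBN.rootsF4 K)
    (index_not_dvd hD (by norm_num) (hK ▸ dvd_pow_sixty_sub_one (p := p) (by norm_num) hp (by norm_num)) (by simp))
    (hκ.comp hι) (hφ x) (hφ a) hx hax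
  exact (weyl_checks hW).2.1 hdvd

/-- No commuting elements of orders 7 and 5 are conjugate to their cube and square. -/
theorem no_thirtyfive (hι : Function.Injective ι) (hφ : Function.Surjective φ) (hp : p ≠ 7) (hp' : p ≠ 5)
    {x y a : B} (hx : orderOf x = 7) (hy : orderOf y = 5) (hxy : y * x * y⁻¹ = x)
    (hax : a * x * a⁻¹ = x ^ 3) (hay : a * y * a⁻¹ = y ^ 2) : False := by
  have hD : Chev.Good chevF4 := Chev.good_of_mem (by simp)
  haveI : Fact (Nat.Prime 7) := ⟨by norm_num⟩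
  haveI : Fact (Nat.Prime 5) := ⟨by norm_num⟩
  obtain ⟨K, _, _, f, hK⟩ := exists_extension F p 60
  obtain ⟨κ, hκ⟩ := exists_hom_group hD F f
  obtain ⟨A, hW, h1, h2⟩ := pair (κ.comp ι) φ (fusion_chev hD ChevBN.rootsF4 K) (e := 24)
    (fun A hA => (weyl_checks hA).1) (by norm_num)
    (index_not_dvd hD (by norm_num) (hK ▸ dvd_pow_sixty_sub_one (p := p) (by norm_num) hp (by norm_num)) (by simp))
    (index_not_dvd hD (by norm_num) (hK ▸ dvd_pow_sixty_sub_one (p := p) (by norm_num) hp' (by norm_num)) (by simp))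
    (hκ.comp hι) hφ hx hy hxy hax hay
  exact (weyl_checks hW).2.2 ⟨h1, h2⟩

end Cfsg.Agent.ToralSection.F4
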